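import Groth.Agent.ImmDescent.Basic
import Mathlib.AlgebraicGeometry.Morphisms.FlatMono
import Mathlib.AlgebraicGeometry.Morphisms.SchemeTheoreticallyDominant

/-!
# Separated flat morphisms of finite type which are isomorphisms over a schematically dense open
-/

set_option autoImplicit false
set_option linter.style.haveILetI false
universe u
open CategoryTheory CategoryTheory.Limits AlgebraicGeometry TopologicalSpace

namespace Groth.Agent.FlatMonoLft

variable {X S : Scheme.{u}} (f : X ⟶ S)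

theorem mono_of_iso_over_dominant [IsSeparated f] [Flat f] (U : S.Opens) [QuasiCompact U.ι]
    [IsSchemeTheoreticallyDominant U.ι] [IsIso (f ∣_ U)] : Mono f := by
  let π := pullback.fst f f ≫ f
  let m := pullback.fst π U.ι
  haveI : IsSchemeTheoreticallyDominant m := inferInstance
  have hr : ∀ q : pullback f f ⟶ X, q ≫ f = π → Set.range (m ≫ q) ⊆ Set.range (f ⁻¹ᵁ U).ι := by
    rintro q hq _ ⟨z, rfl⟩
    rw [Scheme.Opens.range_ι]
    show f _ ∈ U
    rw [← Scheme.Hom.comp_apply, Category.assoc, hq, pullback.condition, Scheme.Hom.comp_apply]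
    exact (pullback.snd π U.ι z).2
  have h2 : pullback.snd f f ≫ f = π := pullback.condition.symm
  let l₁ := IsOpenImmersion.lift (f ⁻¹ᵁ U).ι (m ≫ pullback.fst f f) (hr _ rfl)
  let l₂ := IsOpenImmersion.lift (f ⁻¹ᵁ U).ι (m ≫ pullback.snd f f) (hr _ h2)
  have hl : l₁ = l₂ := by
    rw [← cancel_mono (f ∣_ U), ← cancel_mono U.ι, Category.assoc, Category.assoc, morphismRestrict_ι,
      IsOpenImmersion.lift_fac_assoc, IsOpenImmersion.lift_fac_assoc, Category.assoc, Category.assoc, h2]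
  have hm : (m ≫ pullback.fst f f) ≫ pullback.diagonal f = m := by
    refine pullback.hom_ext (by simp) ?_
    rw [Category.assoc, pullback.diagonal_snd, Category.comp_id,
      ← IsOpenImmersion.lift_fac (f ⁻¹ᵁ U).ι (m ≫ pullback.fst f f) (hr _ rfl)]
    exact (congrArg (· ≫ (f ⁻¹ᵁ U).ι) hl).trans (IsOpenImmersion.lift_fac _ _ _)
  have hk : (pullback.diagonal f).ker = ⊥ := by
    refine le_bot_iff.mp ((Scheme.Hom.le_ker_comp (m ≫ pullback.fst f f) (pullback.diagonal f)).trans ?_)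
    rw [hm, m.ker_eq_bot]
  haveI : IsIso (pullback.diagonal f) := IsClosedImmersion.isIso_iff_ker_eq_bot.mpr hk
  exact (pullback.isIso_diagonal_iff f).mp inferInstance

theorem exists_lift_stalk [Flat f] [Mono f] (x : X) :
    ∃ σ : Spec (S.presheaf.stalk (f x)) ⟶ X,
      σ ≫ f = S.fromSpecStalk (f x) ∧ σ (IsLocalRing.closedPoint (S.presheaf.stalk (f x))) = x := by
  let f' := pullback.snd f (S.fromSpecStalk (f x))
  let cp : Spec (S.presheaf.stalk (f x)) := IsLocalRing.closedPoint (S.presheaf.stalk (f x))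
  obtain ⟨x', hx1, hx2⟩ := Scheme.Pullback.exists_preimage_pullback (f := f) (g := S.fromSpecStalk (f x)) x cp
    Scheme.fromSpecStalk_closedPoint.symm
  obtain ⟨_, ⟨W, hW, rfl⟩, hxW, -⟩ :=
    (pullback f (S.fromSpecStalk (f x))).isBasis_affineOpens.exists_subset_of_mem_open (Set.mem_univ x') isOpen_univ
  have hall : ∀ z, ∃ w ∈ W, f' w = z := fun z => by
    have hz : z ⤳ f' x' := by
      rw [hx2]
      exact (IsLocalRing.specializes_closedPoint z)
    obtain ⟨w, hw, hwz⟩ := Flat.generalizingMap f' hz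
    exact ⟨w, hw.mem_open W.2 hxW, hwz⟩
  have htop : W = ⊤ := top_le_iff.mp fun w _ => by
    obtain ⟨w', hw', he⟩ := hall (f' w)
    exact f'.injective he ▸ hw'
  haveI : IsAffine (pullback f (S.fromSpecStalk (f x))) := by
    have : IsAffineOpen (⊤ : (pullback f (S.fromSpecStalk (f x))).Opens) := htop ▸ hW
    haveI : IsAffine ((⊤ : (pullback f (S.fromSpecStalk (f x))).Opens) : Scheme.{u}) := this
    exact IsAffine.of_isIso (Scheme.topIso _).inv
  haveI : Surjective f' := ⟨fun z => (hall z).imp fun _ h => h.2⟩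
  haveI : IsIso f' := Flat.isIso_of_surjective_of_mono f'
  refine ⟨inv f' ≫ pullback.fst f _, by rw [Category.assoc, pullback.condition, IsIso.inv_hom_id_assoc], ?_⟩
  show (inv f' ≫ pullback.fst f _) cp = x
  rw [← hx2, Scheme.Hom.comp_apply, ← Scheme.Hom.comp_apply f' (inv f'), IsIso.hom_inv_id]
  exact hx1

theorem stalkMap_surjective [Flat f] [Mono f] (x : X) : Function.Surjective (f.stalkMap x).hom := by
  obtain ⟨σ, hσ, hx⟩ := exists_lift_stalk f x
  let y := f x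
  have h1 : X.fromSpecStalk x = Spec.map (f.stalkMap x) ≫ σ := by
    rw [← cancel_mono f, Category.assoc, hσ, Scheme.SpecMap_stalkMap_fromSpecStalk]
  let ψ : X.presheaf.stalk x ⟶ S.presheaf.stalk y :=
    X.presheaf.stalkSpecializes (specializes_of_eq hx) ≫ Scheme.stalkClosedPointTo σ
  have h2 : Spec.map ψ ≫ X.fromSpecStalk x = σ := by
    rw [Spec.map_comp, Category.assoc, Scheme.SpecMap_stalkSpecializes_fromSpecStalk,
      Scheme.Spec_stalkClosedPointTo_fromSpecStalk]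
  have h3 : ψ ≫ f.stalkMap x = 𝟙 _ := Spec.map_injective (by
    rw [← cancel_mono (X.fromSpecStalk x), Spec.map_comp, Category.assoc, h2, Spec.map_id, Category.id_comp, ← h1])
  exact fun b => ⟨ψ.hom b, congrArg (fun g => g.hom b) h3⟩

theorem exists_closedImmersion_nhd [Flat f] [Mono f] [LocallyOfFiniteType f] (x : X) :
    ∃ (V : S.Opens) (W : X.Opens) (e : W ≤ f ⁻¹ᵁ V), IsAffineOpen V ∧ IsAffineOpen W ∧ x ∈ W ∧
      IsClosedImmersion (f.resLE V W e) := by
  obtain ⟨_, ⟨V, hV, rfl⟩, hxV, -⟩ := S.isBasis_affineOpens.exists_subset_of_mem_open (Set.mem_univ (f x)) isOpen_univ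
  obtain ⟨_, ⟨W, hW, rfl⟩, hxW, eW⟩ :=
    X.isBasis_affineOpens.exists_subset_of_mem_open (show x ∈ f ⁻¹' (V : Set S) from hxV) (V.2.preimage f.continuous)
  replace hV : IsAffineOpen V := hV
  replace hW : IsAffineOpen W := hW
  have e : W ≤ f ⁻¹ᵁ V := eW
  let φ := f.appLE V W e
  have hft : φ.hom.FiniteType := HasRingHomProperty.appLE @LocallyOfFiniteType f inferInstance ⟨V, hV⟩ ⟨W, hW⟩ e
  letI := φ.hom.toAlgebra
  obtain ⟨gs, hgs⟩ := (hft : Algebra.FiniteType Γ(S, V) Γ(X, W))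
  letI := X.presheaf.algebra_section_stalk (U := W) ⟨x, hxW⟩
  letI := S.presheaf.algebra_section_stalk (U := V) ⟨f x, hxV⟩
  haveI := hW.isLocalization_stalk ⟨x, hxW⟩
  haveI := hV.isLocalization_stalk ⟨f x, hxV⟩
  let q := (hW.primeIdealOf ⟨x, hxW⟩).asIdeal
  let p := (hV.primeIdealOf ⟨f x, hxV⟩).asIdeal
  have hgerm : ∀ a : Γ(S, V), f.stalkMap x (S.presheaf.germ V (f x) hxV a) = X.presheaf.germ W x hxW (φ a) := by
    intro a
    rw [Scheme.Hom.germ_stalkMap_apply]
    simp only [φ, Scheme.Hom.appLE, CommRingCat.comp_apply]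
    exact (TopCat.Presheaf.germ_res_apply _ _ _ _ _).symm
  have hunit : ∀ s : Γ(S, V), s ∈ p.primeCompl → φ s ∈ q.primeCompl := fun s hs => by
    have h : IsUnit (algebraMap Γ(X, W) (X.presheaf.stalk x) (φ s)) := by
      show IsUnit (X.presheaf.germ W x hxW (φ s))
      rw [← hgerm]
      exact (IsLocalization.map_units (S.presheaf.stalk (f x)) (⟨s, hs⟩ : p.primeCompl)).map (f.stalkMap x).hom
    exact (IsLocalization.AtPrime.isUnit_to_map_iff (X.presheaf.stalk x) q (φ s)).mp h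
  have hex : ∀ b : Γ(X, W), ∃ a : Γ(S, V), ∃ s ∈ p.primeCompl, ∃ t ∈ q.primeCompl, t * (b * φ s - φ a) = 0 := by
    intro b
    obtain ⟨z, hz⟩ := stalkMap_surjective f x (algebraMap Γ(X, W) (X.presheaf.stalk x) b)
    obtain ⟨⟨a, s⟩, has⟩ := IsLocalization.surj p.primeCompl z
    refine ⟨a, s, s.2, ?_⟩
    have h0 : algebraMap Γ(X, W) (X.presheaf.stalk x) (b * φ s - φ a) = 0 := by
      rw [map_sub, map_mul, ← hz, sub_eq_zero]
      show _ * X.presheaf.germ W x hxW (φ s) = X.presheaf.germ W x hxW (φ a)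
      rw [← hgerm, ← hgerm]
      exact (map_mul (f.stalkMap x).hom _ _).symm.trans (congrArg (f.stalkMap x).hom has)
    obtain ⟨⟨t, ht⟩, htt⟩ := (IsLocalization.map_eq_zero_iff q.primeCompl (X.presheaf.stalk x) _).mp h0
    exact ⟨t, ht, htt⟩
  choose a s hs t ht hrel using hex
  classical
  let σ := ∏ b ∈ gs, s b
  let τ := ∏ b ∈ gs, t b
  have hσ : σ ∈ p.primeCompl := prod_mem fun b _ => hs b
  have hτ : τ ∈ q.primeCompl := prod_mem fun b _ => ht b
  have hQ : ∀ b : Γ(X, W), ∃ (N : ℕ) (c : Γ(S, V)), τ * (b * φ σ ^ N - φ c) = 0 := by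
    intro b
    have hb : b ∈ Algebra.adjoin Γ(S, V) (gs : Set Γ(X, W)) := hgs ▸ Algebra.mem_top
    induction hb using Algebra.adjoin_induction with
    | mem y hy =>
      refine ⟨1, a y * ∏ b ∈ gs.erase y, s b, ?_⟩
      have e1 : σ = s y * ∏ b ∈ gs.erase y, s b := (Finset.mul_prod_erase gs s hy).symm
      have e2 : τ = t y * ∏ b ∈ gs.erase y, t b := (Finset.mul_prod_erase gs t hy).symm
      calc τ * (y * φ σ ^ 1 - φ (a y * ∏ b ∈ gs.erase y, s b))
          = (∏ b ∈ gs.erase y, t b) * φ (∏ b ∈ gs.erase y, s b) * (t y * (y * φ (s y) - φ (a y))) := by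
            rw [pow_one, e1, e2, map_mul, map_mul]; ring
        _ = 0 := by rw [hrel, mul_zero]
    | algebraMap r => exact ⟨0, r, by rw [pow_zero, mul_one, show algebraMap Γ(S, V) Γ(X, W) r = φ r from rfl, sub_self, mul_zero]⟩
    | add y z _ _ hy hz =>
      obtain ⟨N, c, hy⟩ := hy; obtain ⟨M, d, hz⟩ := hz
      refine ⟨N + M, c * σ ^ M + d * σ ^ N, ?_⟩
      rw [map_add, map_mul, map_mul, map_pow, map_pow]
      linear_combination φ σ ^ M * hy + φ σ ^ N * hz
    | mul y z _ _ hy hz =>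
      obtain ⟨N, c, hy⟩ := hy; obtain ⟨M, d, hz⟩ := hz
      refine ⟨N + M, c * d, ?_⟩
      rw [map_mul]
      linear_combination z * φ σ ^ M * hy + φ c * hz
  obtain ⟨N, α, hα⟩ := hQ τ
  let h := σ * α
  have hφh : τ * φ h = τ * τ * φ σ ^ (N + 1) := by
    rw [show φ h = φ σ * φ α from map_mul φ.hom σ α]
    linear_combination (-(φ σ)) * hα
  let W' := X.basicOpen (τ * φ σ)
  let V' := S.basicOpen h
  have hW' : IsAffineOpen W' := hW.basicOpen _
  have hV' : IsAffineOpen V' := hV.basicOpen _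
  let B' := Γ(X, W')
  let ρ := X.presheaf.map (homOfLE (X.basicOpen_le (τ * φ σ))).op
  have hu : IsUnit (ρ (τ * φ σ)) := RingedSpace.isUnit_res_basicOpen _ (τ * φ σ)
  have hum : IsUnit (ρ τ * ρ (φ σ)) := by rwa [← map_mul ρ.hom τ (φ σ)]
  have huτ := isUnit_of_mul_isUnit_left hum
  have huσ := isUnit_of_mul_isUnit_right hum
  have hcancel : ∀ (b : Γ(X, W)) (n : ℕ) (c : Γ(S, V)), τ * (b * φ σ ^ n - φ c) = 0 →
      ρ b * ρ (φ σ) ^ n = ρ (φ c) := by
    intro b n c hc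
    refine huτ.mul_left_cancel ?_
    have := congrArg ρ.hom hc
    simp only [map_mul, map_sub, map_pow, map_zero] at this
    rw [mul_sub, sub_eq_zero] at this
    exact this
  have e' : W' ≤ f ⁻¹ᵁ V' := by
    have hh : IsUnit (ρ (φ h)) := by
      have := congrArg ρ.hom hφh
      simp only [map_mul, map_pow] at this
      have h2 : IsUnit (ρ τ * ρ (φ h)) := by
        rw [this]; exact (huτ.mul huτ).mul (huσ.pow _)
      exact isUnit_of_mul_isUnit_right h2
    intro z hz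
    have hzW : z ∈ W := X.basicOpen_le _ hz
    show f z ∈ S.basicOpen h
    refine (RingedSpace.mem_basicOpen S.toLocallyRingedSpace.toRingedSpace h (f z) (e hzW)).mpr ?_
    have h3 : IsUnit (X.presheaf.germ W' z hz (ρ (φ h))) := hh.map _
    rw [TopCat.Presheaf.germ_res_apply] at h3
    have h4 : f.stalkMap z (S.presheaf.germ V (f z) (e hzW) h) = X.presheaf.germ W z hzW (φ h) := by
      rw [Scheme.Hom.germ_stalkMap_apply]
      simp only [φ, Scheme.Hom.appLE, CommRingCat.comp_apply]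
      exact (TopCat.Presheaf.germ_res_apply _ _ _ _ _).symm
    rw [← h4] at h3
    exact (isUnit_map_iff (f.stalkMap z).hom _).mp h3
  have hxW' : x ∈ W' := by
    refine (RingedSpace.mem_basicOpen X.toLocallyRingedSpace.toRingedSpace _ x hxW).mpr ?_
    exact (IsLocalization.AtPrime.isUnit_to_map_iff (X.presheaf.stalk x) q _).mpr
      (mul_mem hτ (hunit σ hσ))
  refine ⟨V', W', e', hV', hW', hxW', ?_⟩
  let ψ := f.appLE V' W' e'
  let σA := S.presheaf.map (homOfLE (S.basicOpen_le h)).op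
  have hcomm : ∀ c : Γ(S, V), ψ (σA c) = ρ (φ c) := fun c => by
    exact congrArg (fun g => g.hom c) ((f.map_appLE e' (homOfLE (S.basicOpen_le h)).op).trans
      (f.appLE_map e (homOfLE (X.basicOpen_le (τ * φ σ))).op).symm)
  have huh : IsUnit (σA h) := RingedSpace.isUnit_res_basicOpen _ h
  have huh' : IsUnit (σA σ * σA α) := by rwa [← map_mul σA.hom σ α]
  have hrange : ∀ z : Γ(X, W'), z ∈ ψ.hom.range := by
    obtain ⟨σi, hσi⟩ := (isUnit_of_mul_isUnit_left huh').exists_left_inv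
    obtain ⟨αi, hαi⟩ := (isUnit_of_mul_isUnit_right huh').exists_left_inv
    have hb : ∀ b, ρ b ∈ ψ.hom.range := fun b => by
      obtain ⟨n, c, hc⟩ := hQ b
      refine ⟨σA c * σi ^ n, ?_⟩
      rw [map_mul, map_pow]
      show ψ (σA c) * ψ σi ^ n = ρ b
      have h1 : ψ σi * ρ (φ σ) = 1 := by
        rw [← hcomm, ← map_mul ψ.hom, hσi, map_one]
      rw [hcomm, ← hcancel b n c hc, mul_assoc, ← mul_pow, mul_comm (ρ (φ σ)), h1, one_pow, mul_one]
    have hi : ∃ d ∈ ψ.hom.range, ρ (τ * φ σ) * d = 1 := by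
      refine ⟨ψ (αi * σA σ ^ N * σi), ⟨_, rfl⟩, ?_⟩
      have h1 : ψ αi * ρ (φ α) = 1 := by
        rw [← hcomm, ← map_mul ψ.hom, hαi, map_one]
      have h2 : ψ σi * ρ (φ σ) = 1 := by
        rw [← hcomm, ← map_mul ψ.hom, hσi, map_one]
      rw [map_mul ρ.hom, map_mul ψ.hom, map_mul ψ.hom, map_pow ψ.hom]
      show ρ τ * ρ (φ σ) * (ψ αi * ψ (σA σ) ^ N * ψ σi) = 1
      rw [hcomm, show ρ τ * ρ (φ σ) * (ψ αi * ρ (φ σ) ^ N * ψ σi) =
        (ψ αi * (ρ τ * ρ (φ σ) ^ N)) * (ψ σi * ρ (φ σ)) by ring, h2, hcancel τ N α hα, h1, one_mul]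
    intro z
    letI := ρ.hom.toAlgebra
    haveI : IsLocalization.Away (τ * φ σ) Γ(X, W') := hW.isLocalization_basicOpen (τ * φ σ)
    obtain ⟨⟨b, ⟨_, n, rfl⟩⟩, hz⟩ := IsLocalization.surj (Submonoid.powers (τ * φ σ)) z
    obtain ⟨d, hd, hd'⟩ := hi
    have hz' : z * ρ (τ * φ σ) ^ n = ρ b := by
      rw [← map_pow]; exact hz
    have : z = ρ b * d ^ n := by
      rw [← hz', mul_assoc, ← mul_pow, hd', one_pow, mul_one]
    rw [this]
    exact mul_mem (hb b) (pow_mem hd n)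
  haveI : IsAffine (V' : Scheme.{u}) := hV'
  haveI : IsAffine (W' : Scheme.{u}) := hW'
  refine IsClosedImmersion.of_surjective_of_isAffine _ ?_
  show Function.Surjective ((f.resLE V' W' e').app ⊤)
  rw [Scheme.Hom.resLE_app_top]
  intro z
  obtain ⟨y, hy⟩ := hrange (W'.topIso.hom z)
  refine ⟨V'.topIso.inv y, ?_⟩
  show W'.topIso.inv (ψ (V'.topIso.hom (V'.topIso.inv y))) = z
  rw [Iso.inv_hom_id_apply]
  refine (congrArg _ (show ψ y = W'.topIso.hom z from hy)).trans ?_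
  rw [Iso.hom_inv_id_apply]

theorem locallyOfFinitePresentation [IsSeparated f] [LocallyOfFiniteType f] [Flat f] (U : S.Opens)
    [QuasiCompact U.ι] [IsSchemeTheoreticallyDominant U.ι] [IsIso (f ∣_ U)] : IsOpenImmersion f := by
  haveI := mono_of_iso_over_dominant f U
  suffices h : ∀ x : X, ∃ W : X.Opens, x ∈ W ∧ LocallyOfFinitePresentation (W.ι ≫ f) by
    choose W hW hfp using h
    haveI : LocallyOfFinitePresentation f := by
      refine IsZariskiLocalAtSource.of_iSup_eq_top W ?_ hfp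
      exact eq_top_iff.mpr fun x _ => Opens.mem_iSup.mpr ⟨x, hW x⟩
    exact IsOpenImmersion.of_flat_of_mono f
  intro x
  obtain ⟨V, W, e, hV, hW, hx, hcl⟩ := exists_closedImmersion_nhd f x
  haveI : IsAffine (V : Scheme.{u}) := hV
  let r := f.resLE V W e
  haveI : Flat r := MorphismProperty.of_postcomp (W := @Flat) (W' := @IsOpenImmersion) r V.ι inferInstance
    (by rw [Scheme.Hom.resLE_comp_ι]; infer_instance)
  let m := pullback.fst V.ι U.ι
  haveI : IsSchemeTheoreticallyDominant m := inferInstance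
  haveI : CompactSpace ↥(pullback V.ι U.ι) := QuasiCompact.compactSpace_of_compactSpace m
  -- the part of `V ⊓ U` outside the image of `W`
  have hopen : IsOpen (m ⁻¹' Set.range r) := by
    have ho : IsOpen ((f ∣_ U) '' ((f ⁻¹ᵁ U).ι ⁻¹' (W : Set X))) :=
      (f ∣_ U).homeomorph.isOpenMap _ (W.2.preimage (f ⁻¹ᵁ U).ι.continuous)
    convert ho.preimage (pullback.snd V.ι U.ι).continuous using 1
    ext z
    have hz : V.ι (m z) = U.ι (pullback.snd V.ι U.ι z) := by
      rw [← Scheme.Hom.comp_apply, pullback.condition, Scheme.Hom.comp_apply]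
    constructor
    · rintro ⟨w, hw⟩
      have h1 : f (W.ι w) = U.ι (pullback.snd V.ι U.ι z) := by
        rw [← hz, ← hw, ← Scheme.Hom.comp_apply, ← Scheme.Hom.comp_apply, Scheme.Hom.resLE_comp_ι]
      have h2 : W.ι w ∈ f ⁻¹ᵁ U := by
        show f (W.ι w) ∈ U
        rw [h1]
        exact (pullback.snd V.ι U.ι z).2
      refine ⟨⟨W.ι w, h2⟩, w.2, U.ι.isOpenEmbedding.injective ?_⟩
      rw [← Scheme.Hom.comp_apply, morphismRestrict_ι]
      exact h1
    · rintro ⟨u, hu, hu'⟩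
      refine ⟨⟨(f ⁻¹ᵁ U).ι u, hu⟩, V.ι.isOpenEmbedding.injective ?_⟩
      rw [hz, ← hu', ← Scheme.Hom.comp_apply, ← Scheme.Hom.comp_apply, Scheme.Hom.resLE_comp_ι, morphismRestrict_ι]
      rfl
  let A : (pullback V.ι U.ι : Scheme.{u}).Opens :=
    ⟨m ⁻¹' (Set.range r)ᶜ, r.isClosedEmbedding.isClosed_range.isOpen_compl.preimage m.continuous⟩
  have hAc : IsClosed (A : Set ↥(pullback V.ι U.ι)) := hopen.isClosed_compl
  haveI : CompactSpace (A : Scheme.{u}) := isCompact_iff_compactSpace.mp hAc.isCompact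
  haveI : QuasiCompact (A.ι ≫ m) := quasiCompact_of_compactSpace _
  let y : (V : Scheme.{u}) := r ⟨x, hx⟩
  have hy : y ∉ closure (Set.range (A.ι ≫ m)) := fun hy => by
    obtain ⟨a, ha⟩ := ImmDescent.exists_specializes_of_mem_closure_range (A.ι ≫ m) hy
    obtain ⟨w, -, hw⟩ := Flat.generalizingMap r ha
    exact a.2 ⟨w, hw.trans (Scheme.Hom.comp_apply A.ι m a)⟩
  let V₀ : (V : Scheme.{u}).Opens := ⟨(closure (Set.range (A.ι ≫ m)))ᶜ, isClosed_closure.isOpen_compl⟩
  let i := r ∣_ V₀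
  haveI : IsClosedImmersion i := inferInstance
  let m₀ := m ∣_ V₀
  haveI : IsSchemeTheoreticallyDominant m₀ :=
    IsSchemeTheoreticallyDominant.of_isPullback (isPullback_morphismRestrict m V₀).flip
  let g₁ := (m ⁻¹ᵁ V₀).ι ≫ pullback.snd V.ι U.ι ≫ inv (f ∣_ U) ≫ (f ⁻¹ᵁ U).ι
  have hg₁ : g₁ ≫ f = (m ⁻¹ᵁ V₀).ι ≫ m ≫ V.ι := by
    simp only [g₁, Category.assoc, m]
    rw [← morphismRestrict_ι f U, IsIso.inv_hom_id_assoc, pullback.condition]
  have hrg : Set.range g₁ ⊆ Set.range W.ι := by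
    rintro _ ⟨z, rfl⟩
    have hz : m ((m ⁻¹ᵁ V₀).ι z) ∈ Set.range r := by
      by_contra hc
      exact z.2 (subset_closure ⟨⟨_, hc⟩, rfl⟩)
    obtain ⟨w, hw⟩ := hz
    refine ⟨w, f.injective ?_⟩
    rw [← Scheme.Hom.comp_apply, ← Scheme.Hom.comp_apply g₁, hg₁]
    refine Eq.trans ?_ (congrArg V.ι hw)
    rw [← Scheme.Hom.comp_apply, Scheme.Hom.resLE_comp_ι]
  let l := IsOpenImmersion.lift W.ι g₁ hrg
  have hlr : l ≫ r = (m ⁻¹ᵁ V₀).ι ≫ m := by
    rw [← cancel_mono V.ι, Category.assoc, Scheme.Hom.resLE_comp_ι, IsOpenImmersion.lift_fac_assoc,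
      hg₁, Category.assoc]
  have hlV : Set.range l ⊆ Set.range (r ⁻¹ᵁ V₀).ι := by
    rintro _ ⟨z, rfl⟩
    rw [Scheme.Opens.range_ι]
    show r (l z) ∈ V₀
    rw [← Scheme.Hom.comp_apply, hlr]
    exact z.2
  let l₀ := IsOpenImmersion.lift (r ⁻¹ᵁ V₀).ι l hlV
  have hl₀ : l₀ ≫ i = m₀ := by
    rw [← cancel_mono V₀.ι, Category.assoc, morphismRestrict_ι, IsOpenImmersion.lift_fac_assoc, hlr,
      morphismRestrict_ι]
  haveI : IsIso i := IsClosedImmersion.isIso_iff_ker_eq_bot.mpr (le_bot_iff.mp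
    ((Scheme.Hom.le_ker_comp l₀ i).trans (by rw [hl₀, m₀.ker_eq_bot])))
  let W₀ := (r ⁻¹ᵁ V₀).ι ≫ W.ι
  refine ⟨W₀.opensRange, ⟨⟨⟨x, hx⟩, hy⟩, rfl⟩, ?_⟩
  have h1 : W₀.isoOpensRange.hom ≫ W₀.opensRange.ι ≫ f = i ≫ V₀.ι ≫ V.ι := by
    rw [Scheme.Hom.isoOpensRange_hom_ι_assoc, morphismRestrict_ι_assoc, Category.assoc,
      Scheme.Hom.resLE_comp_ι]
  have h2 : LocallyOfFinitePresentation (W₀.isoOpensRange.hom ≫ W₀.opensRange.ι ≫ f) := by
    rw [h1]; infer_instance
  exact (MorphismProperty.cancel_left_of_respectsIso @LocallyOfFinitePresentation _ _).mp h2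

end Groth.Agent.FlatMonoLft
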