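import Groth.Agent.GeomFibre.Descent
import Groth.Agent.UnitProd.SmoothReduced
import Groth.Agent.FlatDescent.Scheme
import Mathlib.AlgebraicGeometry.Morphisms.FlatMono

/-!
# Small facts
-/

set_option autoImplicit false
set_option linter.style.haveILetI false
universe u
open CategoryTheory CategoryTheory.Limits AlgebraicGeometry TopologicalSpace

namespace Groth.Agent.MiscFlat

set_option backward.isDefEq.respectTransparency false in
theorem exists_nhd_isIso {X Y : Scheme.{u}} (f : X ⟶ Y) [IsClosedImmersion f]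
    [LocallyOfFinitePresentation f] (x : X) (hflat : (f.stalkMap x).hom.Flat) :
    ∃ V : Y.Opens, f x ∈ V ∧ IsIso (f ∣_ V) := by
  obtain ⟨O, hO, hOW⟩ := f.isEmbedding.isInducing.isOpen_iff.mp (FlatDescent.isOpen_flatLocus_hom f)
  let V₀ : Y.Opens := ⟨O, hO⟩
  haveI : Flat ((f ⁻¹ᵁ V₀).ι ≫ f) := (Flat.iff_flat_stalkMap _).mpr fun v => by
    rw [Scheme.Hom.stalkMap_comp, CommRingCat.hom_comp, RingHom.Flat.respectsIso.cancel_right_isIso]
    exact hOW.subset v.2
  haveI : Flat (f ∣_ V₀) := MorphismProperty.of_postcomp (W := @Flat) (W' := @IsOpenImmersion) _ V₀.ι inferInstance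
    (by rw [morphismRestrict_ι]; infer_instance)
  haveI : IsOpenImmersion (f ∣_ V₀) := IsOpenImmersion.of_flat_of_mono _
  let W := (f ∣_ V₀) ≫ V₀.ι
  have hx : x ∈ f ⁻¹ᵁ V₀ := hOW.symm.subset hflat
  refine ⟨W.opensRange, ⟨⟨x, hx⟩, ?_⟩, ?_⟩
  · show W ⟨x, hx⟩ = f x
    rw [show W = (f ⁻¹ᵁ V₀).ι ≫ f from morphismRestrict_ι f V₀, Scheme.Hom.comp_apply]; rfl
  · have hW : f ⁻¹ᵁ W.opensRange = f ⁻¹ᵁ V₀ := by
      ext z
      constructor
      · rintro ⟨w, hw⟩
        show f z ∈ V₀
        rw [← hw, show W = (f ∣_ V₀) ≫ V₀.ι from rfl, Scheme.Hom.comp_apply]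
        exact ((f ∣_ V₀) w).2
      · intro hz
        exact ⟨⟨z, hz⟩, by rw [show W = (f ⁻¹ᵁ V₀).ι ≫ f from morphismRestrict_ι f V₀, Scheme.Hom.comp_apply]; rfl⟩
    have e : f ∣_ W.opensRange = ((X.isoOfEq hW).hom ≫ W.isoOpensRange.hom) := by
      rw [← cancel_mono W.opensRange.ι, morphismRestrict_ι, Category.assoc, Scheme.Hom.isoOpensRange_hom_ι]
      show _ = (X.isoOfEq hW).hom ≫ (f ∣_ V₀) ≫ V₀.ι
      rw [morphismRestrict_ι, Scheme.isoOfEq_hom_ι_assoc]
    rw [e]; infer_instance

theorem isDominant_iff {k E : Type u} [Field k] [Field E] [Algebra k E]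
    {X Y : Scheme.{u}} (f : X ⟶ Y) (q : Y ⟶ Spec (.of k)) :
    IsDominant f ↔
      IsDominant (pullback.snd f (pullback.fst q (Spec.map (CommRingCat.ofHom (algebraMap k E))))) := by
  let t := Spec.map (CommRingCat.ofHom (algebraMap k E))
  let p := pullback.fst q t
  haveI : UniversallyOpen t := inferInstance
  haveI : Surjective t := ⟨fun _ => ⟨IsLocalRing.closedPoint E, Subsingleton.elim (α := PrimeSpectrum k) _ _⟩⟩
  haveI : Surjective p := inferInstance
  rw [AlgebraicGeometry.isDominant_iff, AlgebraicGeometry.isDominant_iff, DenseRange, DenseRange,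
    Scheme.Pullback.range_snd]
  refine ⟨fun h => h.preimage p.isOpenMap, fun h => ?_⟩
  have := p.surjective.denseRange.dense_image p.continuous h
  rwa [Set.image_preimage_eq _ p.surjective] at this

theorem isReduced_iff {ι : Type u} {S : Scheme.{u}} {X : ι → Scheme.{u}} (f : ∀ i, X i ⟶ S)
    (hs : ∀ x : S, ∃ i, x ∈ Set.range (f i)) [∀ i, Smooth (f i)] :
    IsReduced S ↔ ∀ i, IsReduced (X i) := by
  constructor
  · intro h i
    haveI := h
    suffices ∀ x : X i, ∃ W : (X i).Opens, x ∈ W ∧ IsReduced (W : Scheme.{u}) by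
      choose W hW hr using this
      haveI : ∀ x : X i, _root_.IsReduced ((X i).presheaf.stalk x) := fun x => by
        haveI := hr x
        exact isReduced_of_injective _ ((W x).stalkIso ⟨x, hW x⟩).commRingCatIsoToRingEquiv.symm.injective
      exact isReduced_of_isReduced_stalk _
    intro x
    obtain ⟨_, ⟨U, hU, rfl⟩, hxU, -⟩ := S.isBasis_affineOpens.exists_subset_of_mem_open (Set.mem_univ (f i x)) isOpen_univ
    obtain ⟨_, ⟨V, hV, rfl⟩, hxV, eV⟩ :=
      (X i).isBasis_affineOpens.exists_subset_of_mem_open (show x ∈ f i ⁻¹' (U : Set S) from hxU) (U.2.preimage (f i).continuous)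
    have e : V ≤ f i ⁻¹ᵁ U := eV
    have hsm : ((f i).appLE U V e).hom.Smooth := HasRingHomProperty.appLE @Smooth (f i) inferInstance ⟨U, hU⟩ ⟨V, hV⟩ e
    letI := ((f i).appLE U V e).hom.toAlgebra
    haveI : Algebra.Smooth Γ(S, U) Γ(X i, V) := hsm
    haveI : _root_.IsReduced Γ(X i, V) := Groth.Agent.UnitProd.isReduced_of_smooth Γ(S, U) Γ(X i, V)
    haveI : IsAffine (V : Scheme.{u}) := hV
    exact ⟨V, hxV, isReduced_of_isOpenImmersion (IsAffineOpen.isoSpec hV).hom⟩
  · intro h
    haveI := h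
    haveI : IsReduced (∐ X) :=
      @IsReduced.of_openCover _ (sigmaOpenCover X) fun i => h i
    haveI : Flat (Sigma.desc f) := IsZariskiLocalAtSource.sigmaDesc fun i => inferInstance
    haveI : Surjective (Sigma.desc f) := ⟨fun x => by
      obtain ⟨i, y, hy⟩ := hs x
      exact ⟨Sigma.ι X i y, by rw [← Scheme.Hom.comp_apply, Sigma.ι_desc]; exact hy⟩⟩
    exact Groth.Agent.GeomFibre.isReduced_of_flat_surjective (Sigma.desc f)

theorem etale_SpecMap_residueFieldMap {X Y : Scheme.{u}} (f : X ⟶ Y) [Etale f] (x : X) :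
    Etale (Spec.map (f.residueFieldMap x)) := by
  rw [HasRingHomProperty.Spec_iff (P := @Etale)]
  have hess : (f.residueFieldMap x).hom.EssFiniteType :=
    RingHom.EssFiniteType.residueFieldMap (LocallyOfFiniteType.stalkMap f x)
  letI := (f.residueFieldMap x).hom.toAlgebra
  haveI : Algebra.EssFiniteType (Y.residueField (f x)) (X.residueField x) := hess
  haveI : Algebra.IsSeparable (Y.residueField (f x)) (X.residueField x) := inferInstance
  haveI : Algebra.FormallyEtale (Y.residueField (f x)) (X.residueField x) :=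
    (Algebra.FormallyEtale.iff_isSeparable _ _).mpr ‹_›
  haveI : Module.Finite (Y.residueField (f x)) (X.residueField x) :=
    Algebra.FormallyUnramified.finite_of_free _ _
  haveI : Algebra.FiniteType (Y.residueField (f x)) (X.residueField x) := inferInstance
  haveI : Algebra.FinitePresentation (Y.residueField (f x)) (X.residueField x) :=
    Algebra.FinitePresentation.of_finiteType.mp inferInstance
  exact RingHom.etale_algebraMap.mpr { }

theorem etale_fiberMap {U U' V V' : Scheme.{u}} (h : U ⟶ V) (h' : U' ⟶ V') (a : U' ⟶ U)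
    (b : V' ⟶ V) [Etale a] [Etale b] (comm : h' ≫ b = a ≫ h) (v' : V')
    (φ : h'.fiber v' ⟶ h.fiber (b v')) (hφ1 : φ ≫ h.fiberι (b v') = h'.fiberι v' ≫ a)
    (hφ2 : φ ≫ h.fiberToSpecResidueField (b v') = h'.fiberToSpecResidueField v' ≫ Spec.map (b.residueFieldMap v')) :
    Etale φ := by
  let ψ : U' ⟶ pullback h b := pullback.lift a h' comm.symm
  haveI : Etale (ψ ≫ pullback.fst h b) := by rw [pullback.lift_fst]; infer_instance
  haveI : Etale ψ := Etale.of_comp ψ (pullback.fst h b)
  let j := V'.fromSpecResidueField v'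
  let r := Spec.map (b.residueFieldMap v')
  have hr : j ≫ b = r ≫ V.fromSpecResidueField (b v') := (b.SpecMap_residueFieldMap_fromSpecResidueField v').symm
  haveI : Etale r := etale_SpecMap_residueFieldMap b v'
  let P := pullback (pullback.snd h b) j
  let χ : P ⟶ h.fiber (b v') := pullback.lift (pullback.fst _ _ ≫ pullback.fst h b) (pullback.snd _ _ ≫ r)
    (by rw [Category.assoc, pullback.condition, pullback.condition_assoc, Category.assoc, hr])
  have hP : IsPullback (pullback.fst (pullback.snd h b) j ≫ pullback.fst h b) (pullback.snd (pullback.snd h b) j) h (r ≫ V.fromSpecResidueField (b v')) := by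
    rw [← hr]
    exact (IsPullback.of_hasPullback (pullback.snd h b) j).paste_horiz (IsPullback.of_hasPullback h b) |>.flip.flip |> fun q =>
      IsPullback.of_iso q (Iso.refl _) (Iso.refl _) (Iso.refl _) (Iso.refl _) (by simp) (by simp) (by simp) (by simp)
  have hχ : IsPullback χ (pullback.snd (pullback.snd h b) j) (h.fiberToSpecResidueField (b v')) r :=
    IsPullback.of_right (h₁₂ := h.fiberι (b v')) (v₁₃ := h) (h₂₂ := V.fromSpecResidueField (b v'))
      (by rw [show χ ≫ h.fiberι (b v') = _ from pullback.lift_fst _ _ _]; exact hP)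
      (pullback.lift_snd _ _ _) (IsPullback.of_hasPullback h _)
  haveI : Etale χ := MorphismProperty.of_isPullback hχ.flip ‹Etale r›
  have hψ : ψ ≫ pullback.snd h b = h' := pullback.lift_snd _ _ _
  let ψv : h'.fiber v' ⟶ P := pullback.lift (h'.fiberι v' ≫ ψ) (h'.fiberToSpecResidueField v')
    (by rw [Category.assoc, hψ]; exact pullback.condition)
  have hψv : IsPullback (h'.fiberι v') ψv ψ (pullback.fst (pullback.snd h b) j) :=
    IsPullback.of_bot (v₂₁ := pullback.snd (pullback.snd h b) j) (v₂₂ := pullback.snd h b) (h₃₁ := j)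
      (by rw [show ψv ≫ pullback.snd _ _ = _ from pullback.lift_snd _ _ _, hψ]; exact IsPullback.of_hasPullback h' j)
      (pullback.lift_fst _ _ _).symm (IsPullback.of_hasPullback _ _)
  haveI : Etale ψv := MorphismProperty.of_isPullback hψv ‹Etale ψ›
  have e : φ = ψv ≫ χ := by
    refine pullback.hom_ext ?_ ?_
    · refine hφ1.trans (Eq.symm ((Category.assoc _ _ _).trans ((congrArg (ψv ≫ ·) (pullback.lift_fst _ _ _)).trans
        ((pullback.lift_fst_assoc _ _ _ _).trans ((Category.assoc _ _ _).trans (congrArg (h'.fiberι v' ≫ ·) ?_))))))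
      exact pullback.lift_fst _ _ _
    · exact hφ2.trans (Eq.symm ((Category.assoc _ _ _).trans ((congrArg (ψv ≫ ·) (pullback.lift_snd _ _ _)).trans
        (pullback.lift_snd_assoc _ _ _ _))))
  rw [e]; infer_instance

end Groth.Agent.MiscFlat
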