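import Groth.Agent.FibrewiseCrit.Pointwise
import Groth.Agent.S9738

/-!
# Smoothness and étaleness from the infinitesimal neighbourhoods
-/

set_option autoImplicit false
set_option linter.style.haveILetI false
universe u
open CategoryTheory CategoryTheory.Limits AlgebraicGeometry TopologicalSpace

namespace Groth.Agent.InfNbhd

open Groth.FibrewiseCrit

variable {X S : Scheme.{u}} (f : X ⟶ S) [IsLocallyNoetherian S] [LocallyOfFinitePresentation f]
  (I : S.IdealSheafData)

theorem exists_lift (x : X) (hx : f x ∈ I.support) :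
    ∃ x' : (pullback f (I ^ (0 + 1)).subschemeι : Scheme.{u}), pullback.fst f (I ^ (0 + 1)).subschemeι x' = x := by
  have hz : f x ∈ Set.range (I ^ (0 + 1)).subschemeι := by
    rw [Scheme.IdealSheafData.range_subschemeι, zero_add, pow_one]; exact hx
  obtain ⟨z, hz⟩ := hz
  obtain ⟨x', h, -⟩ := Scheme.Pullback.exists_preimage_pullback (f := f) (g := (I ^ (0 + 1)).subschemeι) x z hz.symm
  exact ⟨x', h⟩

set_option backward.isDefEq.respectTransparency false in
theorem mem_smoothLocus (h : ∀ n : ℕ, Smooth (pullback.snd f (I ^ (n + 1)).subschemeι)) (x : X)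
    (hx : f x ∈ I.support) : x ∈ f.smoothLocus := by
  haveI : IsLocallyNoetherian X := LocallyOfFiniteType.isLocallyNoetherian f
  have hflat := Groth.Agent.S9738.result f I (fun n => by haveI := h n; infer_instance) x hx
  let W : X.Opens := ⟨{x | (f.stalkMap x).hom.Flat}, FlatDescent.isOpen_flatLocus_hom f⟩
  haveI : Flat (W.ι ≫ f) := (Flat.iff_flat_stalkMap _).mpr fun v => by
    rw [Scheme.Hom.stalkMap_comp, CommRingCat.hom_comp, RingHom.Flat.respectsIso.cancel_right_isIso]
    exact v.2
  obtain ⟨x', hx'⟩ := exists_lift f I x hx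
  let ι := (I ^ (0 + 1)).subschemeι
  let e := pullbackRightPullbackFstIso f ι W.ι
  obtain ⟨w, hw⟩ : x ∈ Set.range W.ι := by rw [Scheme.Opens.range_ι]; exact hflat
  obtain ⟨x'', h1, h2⟩ := Scheme.Pullback.exists_preimage_pullback (f := W.ι) (g := pullback.fst f ι) w x'
    (hw.trans hx'.symm)
  haveI := h 0
  have hs : Smooth (pullback.snd (W.ι ≫ f) ι) := by
    refine (MorphismProperty.cancel_left_of_respectsIso @Smooth e.hom _).mp ?_
    rw [pullbackRightPullbackFstIso_hom_snd]
    infer_instance
  have hmem : e.hom x'' ∈ (pullback.snd (W.ι ≫ f) ι).smoothLocus := by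
    rw [Scheme.Hom.smoothLocus_eq_top]; trivial
  have := (mem_smoothLocus_of_isPullback_of_flat (IsPullback.of_hasPullback (W.ι ≫ f) ι) (e.hom x'')).mp hmem
  rw [← Scheme.Hom.comp_apply, pullbackRightPullbackFstIso_hom_fst, h1, mem_smoothLocus_comp_left, hw] at this
  exact this

theorem exists_nhd_etale (h : ∀ n : ℕ, Etale (pullback.snd f (I ^ (n + 1)).subschemeι)) (x : X)
    (hx : f x ∈ I.support) : ∃ U : X.Opens, x ∈ U ∧ Etale (U.ι ≫ f) := by
  refine (exists_nhd_etale_iff f x).mpr ⟨mem_smoothLocus f I (fun n => by haveI := h n; infer_instance) x hx, ?_⟩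
  obtain ⟨x', hx'⟩ := exists_lift f I x hx
  rw [← hx', ← mem_fuLocus_of_isPullback (IsPullback.of_hasPullback f (I ^ (0 + 1)).subschemeι) x']
  haveI := h 0
  exact (formallyUnramified_iff_forall_mem_fuLocus _).mp inferInstance x'

end Groth.Agent.InfNbhd
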